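import Groth.Agent.QFlat.Basic
import Groth.Agent.QuasiFlat.Basic
import Mathlib

/-!
Quasi-flat morphisms: generalizations lift after any base change.
-/

set_option autoImplicit false
set_option backward.isDefEq.respectTransparency false
universe u
open CategoryTheory CategoryTheory.Limits AlgebraicGeometry
open scoped TensorProduct

namespace Groth.Agent.QFlatUniv

/-- Tensoring an `A`-flat module with an `S`-flat one over `S` keeps it `A`-flat. -/
theorem flat_tensor {A S T N : Type u} [CommRing A] [CommRing S] [Algebra A S] [AddCommGroup T]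
    [Module A T] [Module S T] [IsScalarTower A S T] [AddCommGroup N] [Module A N] [Module S N]
    [IsScalarTower A S N] [Module.Flat S T] [Module.Flat A N] : Module.Flat A (T ⊗[S] N) := by
  rw [Module.Flat.iff_lTensor_preserves_injective_linearMap]
  intro X Y _ _ _ _ f hf
  let eX := TensorProduct.AlgebraTensorModule.assoc A S S T N X
  let eY := TensorProduct.AlgebraTensorModule.assoc A S S T N Y
  let g : N ⊗[A] X →ₗ[S] N ⊗[A] Y := TensorProduct.AlgebraTensorModule.lTensor S N f
  have hg : Function.Injective (g.lTensor T) :=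
    Module.Flat.lTensor_preserves_injective_linearMap g
      (by exact Module.Flat.lTensor_preserves_injective_linearMap f hf)
  have key : ∀ z, eY ((f.lTensor (T ⊗[S] N)) z) = (g.lTensor T) (eX z) := by
    intro z
    induction z using TensorProduct.induction_on with
    | zero => simp
    | add a b ha hb => simp [ha, hb]
    | tmul a x =>
      induction a using TensorProduct.induction_on with
      | zero => simp
      | add a b ha hb => simp only [TensorProduct.add_tmul, map_add, ha, hb]
      | tmul t n => simp [eX, eY, g]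
  intro a b hab
  apply eX.injective
  apply hg
  rw [← key, ← key, hab]

/-- Going down for `C → B ⊗_A C` at a prime over the closed point of `B`, if `B` carries a nonzero
finite module which is flat over `A`. -/
theorem exists_le_comap_eq {A B C M : Type u} [CommRing A] [CommRing B] [CommRing C] [IsLocalRing B]
    [IsLocalRing C] [Algebra A B] [Algebra A C] [AddCommGroup M] [Module A M] [Module B M]
    [IsScalarTower A B M] [Module.Flat A M] [Module.Finite B M] [Nontrivial M]
    (P : Ideal (B ⊗[A] C)) [P.IsPrime]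
    (hB : P.comap (Algebra.TensorProduct.includeLeftRingHom (R := A) (A := B) (B := C)) =
      IsLocalRing.maximalIdeal B)
    (hC : P.comap (Algebra.TensorProduct.includeRight : C →ₐ[A] B ⊗[A] C).toRingHom =
      IsLocalRing.maximalIdeal C)
    (Q : Ideal C) [Q.IsPrime] :
    ∃ P' : Ideal (B ⊗[A] C), P'.IsPrime ∧ P' ≤ P ∧
      P'.comap (Algebra.TensorProduct.includeRight : C →ₐ[A] B ⊗[A] C).toRingHom = Q := by
  letI : Algebra C (B ⊗[A] C) := Algebra.TensorProduct.rightAlgebra
  let S := B ⊗[A] C
  let T := Localization.AtPrime P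
  let N0 := S ⊗[B] M
  haveI : Module.Flat C N0 :=
    Module.Flat.of_linearEquiv (Algebra.IsPushout.cancelBaseChange A C B S M)
  haveI : Module.Flat S T := IsLocalization.flat T P.primeCompl
  haveI : Module.Flat C (T ⊗[S] N0) := flat_tensor
  haveI : IsLocalHom (algebraMap C T) := ⟨fun c hc => by
    rw [IsScalarTower.algebraMap_apply C S T] at hc
    have h1 : algebraMap C S c ∉ P := fun h =>
      (IsLocalization.AtPrime.isUnit_to_map_iff T P _).1 hc h
    by_contra hu
    exact h1 (show c ∈ P.comap (algebraMap C S) from hC.symm ▸ hu)⟩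
  haveI : IsLocalHom (algebraMap B T) := ⟨fun c hc => by
    rw [IsScalarTower.algebraMap_apply B S T] at hc
    have h1 : algebraMap B S c ∉ P := fun h =>
      (IsLocalization.AtPrime.isUnit_to_map_iff T P _).1 hc h
    by_contra hu
    exact h1 (show c ∈ P.comap (algebraMap B S) from hB.symm ▸ hu)⟩
  haveI : Nontrivial (T ⊗[B] M) := by
    haveI : Nontrivial (IsLocalRing.ResidueField B ⊗[B] M) := by
      rw [← not_subsingleton_iff_nontrivial, IsLocalRing.subsingleton_tensorProduct]
      exact not_subsingleton M
    obtain ⟨z, hz⟩ := exists_ne (0 : IsLocalRing.ResidueField B ⊗[B] M)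
    haveI : Module.FaithfullyFlat (IsLocalRing.ResidueField B) (IsLocalRing.ResidueField T) :=
      inferInstance
    haveI : IsScalarTower B (IsLocalRing.ResidueField B) (IsLocalRing.ResidueField T) :=
      IsScalarTower.of_algebraMap_eq fun _ => rfl
    haveI : Nontrivial (IsLocalRing.ResidueField T ⊗[B] M) :=
      (TensorProduct.AlgebraTensorModule.cancelBaseChange B (IsLocalRing.ResidueField B)
        (IsLocalRing.ResidueField B) (IsLocalRing.ResidueField T) M).symm.toEquiv.nontrivial
    exact ((IsScalarTower.toAlgHom B T (IsLocalRing.ResidueField T)).toLinearMap.rTensor_surjective M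
      IsLocalRing.residue_surjective).nontrivial
  haveI : Nontrivial (T ⊗[S] N0) :=
    (TensorProduct.AlgebraTensorModule.cancelBaseChange B S S T M).toEquiv.nontrivial
  obtain ⟨q, hq⟩ := QFlat.exists_comap_eq_of_flat (R := C) (S := T) (M := T ⊗[S] N0) ⟨Q, inferInstance⟩
  refine ⟨q.asIdeal.comap (algebraMap S T), Ideal.comap_isPrime _ _, ?_, ?_⟩
  · exact (Ideal.comap_mono (IsLocalRing.le_maximalIdeal q.2.ne_top)).trans
      (IsLocalization.AtPrime.comap_maximalIdeal T P).le
  · show (q.asIdeal.comap (algebraMap S T)).comap (algebraMap C S) = Q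
    rw [Ideal.comap_comap, ← IsScalarTower.algebraMap_eq]
    exact congrArg PrimeSpectrum.asIdeal hq

theorem fst_asIdeal (R S T : Type u) [CommRing R] [CommRing S] [CommRing T] [Algebra R S] [Algebra R T]
    (p : ↥(pullback (Spec.map (CommRingCat.ofHom (algebraMap R S))) (Spec.map (CommRingCat.ofHom (algebraMap R T))))) :
    ((pullback.fst (Spec.map (CommRingCat.ofHom (algebraMap R S))) (Spec.map (CommRingCat.ofHom (algebraMap R T)))) p).asIdeal =
      ((pullbackSpecIso R S T).hom p).asIdeal.comap Algebra.TensorProduct.includeLeftRingHom := by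
  rw [← pullbackSpecIso_hom_fst]; rfl

theorem snd_asIdeal (R S T : Type u) [CommRing R] [CommRing S] [CommRing T] [Algebra R S] [Algebra R T]
    (p : ↥(pullback (Spec.map (CommRingCat.ofHom (algebraMap R S))) (Spec.map (CommRingCat.ofHom (algebraMap R T))))) :
    ((pullback.snd (Spec.map (CommRingCat.ofHom (algebraMap R S))) (Spec.map (CommRingCat.ofHom (algebraMap R T)))) p).asIdeal =
      ((pullbackSpecIso R S T).hom p).asIdeal.comap (Algebra.TensorProduct.includeRight : T →ₐ[R] S ⊗[R] T).toRingHom := by
  rw [← pullbackSpecIso_hom_snd]; rfl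

/-- Generalizations lift along every base change of a quasi-flat morphism. -/
theorem generalizingMap_snd {X Y T : Scheme.{u}} (f : X ⟶ Y) (hf : FDesc.IsQuasiFlat f) (g : T ⟶ Y) :
    GeneralizingMap (pullback.snd f g).base := by
  obtain ⟨M, hM, hfl, hsupp⟩ := hf
  intro z t' ht
  set x := pullback.fst f g z
  set t := pullback.snd f g z
  set y := f x
  have hy : g t = y := (congrArg (fun e : pullback f g ⟶ Y => e z) pullback.condition).symm
  let ψ : Y.presheaf.stalk y ⟶ T.presheaf.stalk t :=
    Y.presheaf.stalkSpecializes (specializes_of_eq hy) ≫ g.stalkMap t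
  have hψ : Spec.map ψ ≫ Y.fromSpecStalk y = T.fromSpecStalk t ≫ g := by
    rw [Spec.map_comp, Category.assoc, Scheme.SpecMap_stalkSpecializes_fromSpecStalk]
    exact Scheme.SpecMap_stalkMap_fromSpecStalk g
  let φ : Y.presheaf.stalk y ⟶ X.presheaf.stalk x := f.stalkMap x
  have hφ : Spec.map φ ≫ Y.fromSpecStalk y = X.fromSpecStalk x ≫ f :=
    Scheme.SpecMap_stalkMap_fromSpecStalk f
  let w := pullback.map (Spec.map φ) (Spec.map ψ) f g (X.fromSpecStalk x) (T.fromSpecStalk t)
    (Y.fromSpecStalk y) hφ hψ
  obtain ⟨p, hp⟩ : z ∈ Set.range w := by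
    rw [Scheme.Pullback.range_map]
    constructor
    · show pullback.fst f g z ∈ Set.range (X.fromSpecStalk x)
      rw [Scheme.range_fromSpecStalk]; exact specializes_refl _
    · show pullback.snd f g z ∈ Set.range (T.fromSpecStalk t)
      rw [Scheme.range_fromSpecStalk]; exact specializes_refl _
  obtain ⟨q, hq⟩ : t' ∈ Set.range (T.fromSpecStalk t) := by
    rw [Scheme.range_fromSpecStalk]; exact ht
  letI := φ.hom.toAlgebra
  letI := ψ.hom.toAlgebra
  letI := FlatMod.moduleStalkOver f M x
  haveI : IsScalarTower (Y.presheaf.stalk y) (X.presheaf.stalk x) (M.presheaf.stalk x) :=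
    IsScalarTower.of_algebraMap_smul fun _ _ => rfl
  haveI : Module.Flat (Y.presheaf.stalk y) (M.presheaf.stalk x) := hfl x
  haveI := QuasiFlat.finite_stalk hM x
  haveI := hsupp x
  let e := pullbackSpecIso (Y.presheaf.stalk y) (X.presheaf.stalk x) (T.presheaf.stalk t)
  let P : PrimeSpectrum (X.presheaf.stalk x ⊗[Y.presheaf.stalk y] T.presheaf.stalk t) := e.hom p
  have hep : e.inv P = p := congrArg (fun h : _ ⟶ pullback (Spec.map φ) (Spec.map ψ) => h p) e.hom_inv_id
  have h1 : X.fromSpecStalk x (pullback.fst (Spec.map φ) (Spec.map ψ) p) = x := by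
    show (pullback.fst (Spec.map φ) (Spec.map ψ) ≫ X.fromSpecStalk x) p = x
    rw [← pullback.lift_fst (f := f) (g := g) (pullback.fst _ _ ≫ X.fromSpecStalk x)
      (pullback.snd (Spec.map φ) (Spec.map ψ) ≫ T.fromSpecStalk t) (by
        simp only [Category.assoc, ← hφ, ← hψ, pullback.condition_assoc])]
    exact congrArg (pullback.fst f g) hp
  have h2 : T.fromSpecStalk t (pullback.snd (Spec.map φ) (Spec.map ψ) p) = t := by
    show (pullback.snd (Spec.map φ) (Spec.map ψ) ≫ T.fromSpecStalk t) p = t
    rw [← pullback.lift_snd (f := f) (g := g) (pullback.fst _ _ ≫ X.fromSpecStalk x)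
      (pullback.snd (Spec.map φ) (Spec.map ψ) ≫ T.fromSpecStalk t) (by
        simp only [Category.assoc, ← hφ, ← hψ, pullback.condition_assoc])]
    exact congrArg (pullback.snd f g) hp
  have hB : P.asIdeal.comap (Algebra.TensorProduct.includeLeftRingHom) =
      IsLocalRing.maximalIdeal (X.presheaf.stalk x) := by
    have := (X.fromSpecStalk x).isEmbedding.injective
      (h1.trans (Scheme.fromSpecStalk_closedPoint (x := x)).symm)
    exact (fst_asIdeal (Y.presheaf.stalk y) (X.presheaf.stalk x) (T.presheaf.stalk t) p).symm.trans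
      (congrArg PrimeSpectrum.asIdeal this)
  have hC : P.asIdeal.comap (Algebra.TensorProduct.includeRight : T.presheaf.stalk t →ₐ[Y.presheaf.stalk y]
      X.presheaf.stalk x ⊗[Y.presheaf.stalk y] T.presheaf.stalk t).toRingHom =
      IsLocalRing.maximalIdeal (T.presheaf.stalk t) := by
    have := (T.fromSpecStalk t).isEmbedding.injective
      (h2.trans (Scheme.fromSpecStalk_closedPoint (x := t)).symm)
    exact (snd_asIdeal (Y.presheaf.stalk y) (X.presheaf.stalk x) (T.presheaf.stalk t) p).symm.trans
      (congrArg PrimeSpectrum.asIdeal this)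
  obtain ⟨P', hP', hle, hc⟩ := exists_le_comap_eq (M := M.presheaf.stalk x) P.asIdeal hB hC q.asIdeal
  refine ⟨w (e.inv ⟨P', hP'⟩), ?_, ?_⟩
  · show w (e.inv ⟨P', hP'⟩) ⤳ z
    rw [← hp, ← hep]
    exact (((PrimeSpectrum.le_iff_specializes ⟨P', hP'⟩ P).1 hle).map e.inv.continuous).map w.continuous
  · show (w ≫ pullback.snd f g) (e.inv ⟨P', hP'⟩) = t'
    rw [pullback.lift_snd, Scheme.Hom.comp_apply]
    refine Eq.trans ?_ hq
    refine congrArg (T.fromSpecStalk t) (PrimeSpectrum.ext ?_)
    refine (snd_asIdeal (Y.presheaf.stalk y) (X.presheaf.stalk x) (T.presheaf.stalk t) _).trans ?_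
    have he' : e.hom (e.inv ⟨P', hP'⟩) = ⟨P', hP'⟩ := by
      rw [← Scheme.Hom.comp_apply, e.inv_hom_id]; rfl
    exact (congrArg (fun Z : PrimeSpectrum _ => Z.asIdeal.comap _) he').trans hc

/-- Quasi-flat and locally of finite presentation implies universally open. -/
theorem universallyOpen {X Y : Scheme.{u}} (f : X ⟶ Y) (hf : FDesc.IsQuasiFlat f)
    [LocallyOfFinitePresentation f] : UniversallyOpen f := by
  refine ⟨MorphismProperty.universally_mk' _ _ fun g _ => isOpenMap_of_generalizingMap _ ?_⟩
  rw [← pullbackSymmetry_hom_comp_snd]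
  exact (Flat.generalizingMap (pullbackSymmetry g f).hom).comp (generalizingMap_snd f hf g)

end Groth.Agent.QFlatUniv
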